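import Mathlib
import Cfsg.Agent.Lib.Helper58.PGUmax.Defs
import Cfsg.Agent.Lib.Helper95.PGUmax.Common

/-!
# S2263 (PGUmax), package (1): a self-dual irreducible polynomial over `F_{q²}` is a block
-/

set_option autoImplicit false
set_option linter.style.haveILetI false

namespace Cfsg.Agent.Lib.Helper95.PGUmax

open Polynomial Cfsg.Agent.Lib.Helper45 Cfsg.Agent.Lib.Helper40.DualPoly
  Cfsg.Agent.Lib.Helper58.PGUmax

universe u

theorem pkgBlockSelf : PkgBlockSelf.{u} := by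
  intro K _ _ q hK π hπ
  obtain ⟨hirr, hmon, hdual⟩ := hπ
  obtain ⟨p, f, hp, hchar, hq⟩ := q_prime_pow hK
  haveI := hchar
  haveI : Fact p.Prime := ⟨hp⟩
  have hq2 : 2 ≤ q := two_le_q hK
  have hπ0 : π.coeff 0 ≠ 0 := by
    intro h0
    apply hirr.ne_zero
    rw [← hdual]
    unfold dual
    rw [h0, map_zero, inv_zero, C_0, zero_mul]
  haveI : Fact (Irreducible π) := ⟨hirr⟩
  haveI := hmon.finite_adjoinRoot
  haveI : Finite (AdjoinRoot π) := Module.finite_of_finite K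
  haveI : Fintype (AdjoinRoot π) := Fintype.ofFinite _
  obtain ⟨k, hk⟩ : ∃ k, k = π.natDegree := ⟨_, rfl⟩
  have hkpos : 1 ≤ k := hk ▸ hirr.natDegree_pos
  have hfr : Module.finrank K (AdjoinRoot π) = k := by
    rw [(AdjoinRoot.powerBasis hirr.ne_zero).finrank, AdjoinRoot.powerBasis_dim, hk]
  have hcardL : Fintype.card (AdjoinRoot π) = q ^ (2 * k) := by
    rw [Module.card_eq_pow_finrank (K := K), hfr, hK, ← pow_mul]
  obtain ⟨ζ, hζdef⟩ : ∃ ζ : AdjoinRoot π, ζ = AdjoinRoot.root π := ⟨_, rfl⟩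
  have hζ : aeval ζ π = 0 := by rw [hζdef, AdjoinRoot.aeval_eq, AdjoinRoot.mk_self]
  have hζ0 : ζ ≠ 0 := by
    intro h
    rw [h, ← coeff_zero_eq_aeval_zero'] at hζ
    exact hπ0 ((map_eq_zero _).mp hζ)
  have hroot := aeval_dual_root (sigmaQ hK) p q f hq (fun x => sigmaQ_apply hK x) π ζ hζ0 hζ
  rw [hdual] at hroot
  obtain ⟨ψ, hψ⟩ : ∃ ψ : AdjoinRoot π →ₐ[K] AdjoinRoot π, ψ (AdjoinRoot.root π) = (ζ ^ q)⁻¹ :=
    ⟨AdjoinRoot.liftAlgHom π (Algebra.ofId K _) ((ζ ^ q)⁻¹) hroot,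
      AdjoinRoot.liftAlgHom_root _ _ _ _⟩
  obtain ⟨n, hn⟩ := (FiniteField.bijective_frobeniusAlgHom_pow K (AdjoinRoot π)).2 ψ
  have hfrob : ∀ j : ℕ, ((FiniteField.frobeniusAlgHom K (AdjoinRoot π)) ^ j) ζ =
      ζ ^ (Fintype.card K ^ j) := by
    intro j
    rw [AlgHom.coe_pow, FiniteField.coe_frobeniusAlgHom, pow_iterate]
  have h1 := congrArg (fun f : AdjoinRoot π →ₐ[K] AdjoinRoot π => f ζ) hn
  simp only at h1
  rw [hfrob, hζdef, hψ, ← hζdef, hK] at h1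
  -- h1 : ζ ^ ((q ^ 2) ^ n) = (ζ ^ q)⁻¹
  have hnk : (n : ℕ) < k := hfr ▸ n.2
  obtain ⟨n, hn'⟩ : ∃ m : ℕ, m = (n : ℕ) := ⟨_, rfl⟩
  rw [← hn'] at h1 hnk
  -- the twist applied twice is the Frobenius
  have h2 : ζ ^ ((q ^ 2) ^ (2 * n)) = ζ ^ ((q ^ 2) ^ 1) := by
    calc ζ ^ ((q ^ 2) ^ (2 * n)) = (ζ ^ ((q ^ 2) ^ n)) ^ ((q ^ 2) ^ n) := by
          rw [two_mul, pow_add, pow_mul]
      _ = ((ζ ^ ((q ^ 2) ^ n)) ^ q)⁻¹ := by
          rw [h1, inv_pow, ← pow_mul, mul_comm, pow_mul, h1]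
      _ = ζ ^ ((q ^ 2) ^ 1) := by
          rw [h1, inv_pow, inv_inv, ← pow_mul, pow_one, sq]
  have h3 : (FiniteField.frobeniusAlgHom K (AdjoinRoot π)) ^ (2 * n) =
      (FiniteField.frobeniusAlgHom K (AdjoinRoot π)) ^ 1 := by
    apply AdjoinRoot.algHom_ext
    rw [← hζdef, hfrob, hfrob, hK]
    exact h2
  have hfin : IsOfFinOrder (FiniteField.frobeniusAlgHom K (AdjoinRoot π)) := by
    rw [← orderOf_pos_iff, FiniteField.orderOf_frobeniusAlgHom, hfr]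
    omega
  rw [hfin.pow_inj_mod, FiniteField.orderOf_frobeniusAlgHom, hfr] at h3
  -- `k` is odd and `ζ ^ (q ^ k + 1) = 1`
  have hkey : Odd k ∧ ζ ^ (q ^ k + 1) = 1 := by
    have hq0 : ζ ^ q ≠ 0 := pow_ne_zero _ hζ0
    rcases Nat.lt_or_ge k 2 with hk2 | hk2
    · have hk1 : k = 1 := by omega
      have hn0 : n = 0 := by omega
      subst hk1
      subst hn0
      refine ⟨odd_one, ?_⟩
      rw [pow_zero, pow_one] at h1
      rw [pow_one, pow_succ]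
      have h9 := mul_inv_cancel₀ hq0
      rwa [← h1] at h9
    · have h4 : (2 * n) % k = 1 := by
        rw [h3, Nat.mod_eq_of_lt (by omega)]
      have h5 := Nat.div_add_mod (2 * n) k
      have h6 : 2 * n / k < 2 := Nat.div_lt_of_lt_mul (by omega)
      rw [h4] at h5
      obtain ⟨c, hc⟩ : ∃ c, c = 2 * n / k := ⟨_, rfl⟩
      rw [← hc] at h5 h6
      have hc1 : c = 1 := by
        interval_cases c
        · omega
        · rfl
      subst hc1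
      rw [mul_one] at h5
      have hkn : k + 1 = 2 * n := h5
      refine ⟨⟨n - 1, by omega⟩, ?_⟩
      have h7 : (ζ ^ (q ^ k + 1)) ^ q = 1 := by
        rw [← pow_mul, add_mul, one_mul, ← pow_succ, hkn, pow_add, pow_mul, h1,
          inv_mul_cancel₀ hq0]
      have h8 : (ζ ^ (q ^ k + 1)) ^ (q ^ (2 * k)) = ζ ^ (q ^ k + 1) := by
        rw [← hcardL, FiniteField.pow_card]
      obtain ⟨y, hy⟩ : ∃ y, y = ζ ^ (q ^ k + 1) := ⟨_, rfl⟩
      rw [← hy] at h7 h8 ⊢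
      rw [← h8, show 2 * k = 1 + (2 * k - 1) by omega, pow_add, pow_one, pow_mul, h7, one_pow]
  obtain ⟨hodd, hz1⟩ := hkey
  have hnn : nn q π.natDegree = q ^ k + 1 := by
    unfold nn
    rw [← hk, if_neg (Nat.not_even_iff_odd.mpr hodd)]
  have hdiv : (q + 1) ∣ q ^ k + 1 := by
    simpa using Odd.nat_add_dvd_pow_add_pow q 1 hodd
  refine ⟨hmon, hk ▸ hkpos, ?_, ?_⟩
  · rw [hnn]
    apply dvd_of_common_root π _ hirr ζ hζ
    rw [map_sub, map_pow, aeval_X, map_one, hz1, sub_self]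
  · rw [hnn]
    have hw : (ζ ^ ((q ^ k + 1) / (q + 1))) ^ (q + 1) = 1 := by
      rw [← pow_mul, Nat.div_mul_cancel hdiv, hz1]
    have hwQ : (ζ ^ ((q ^ k + 1) / (q + 1))) ^ Fintype.card K = ζ ^ ((q ^ k + 1) / (q + 1)) := by
      obtain ⟨r, rfl⟩ : ∃ r, q = r + 1 := ⟨q - 1, by omega⟩
      rw [hK, show (r + 1) ^ 2 = (r + 1 + 1) * r + 1 by ring, pow_add, pow_mul, hw, one_pow,
        one_mul, pow_one]
    obtain ⟨z, hz⟩ := exists_algebraMap_eq_of_pow_card _ hwQ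
    refine ⟨z, ?_⟩
    apply dvd_of_common_root π _ hirr ζ hζ
    rw [map_sub, map_pow, aeval_X, aeval_C, hz, sub_self]

end Cfsg.Agent.Lib.Helper95.PGUmax
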