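import Mathlib
import Cfsg.Agent.Lib.Helper58.PGUmax.Defs

/-!
# S2263 (PGUmax), package (7): a product of powers of pairwise coprime blocks of total degree `d`
divides some `X ^ k - c` with `1 ≤ k ≤ Mb p q d`
-/

set_option autoImplicit false
set_option linter.style.haveILetI false

namespace Cfsg.Agent.Lib.Helper95.PGUmax

open Polynomial Cfsg.Agent.Lib.Helper45 Cfsg.Agent.Lib.Helper58.PGUmax

universe u

/-- The least power of `p` that is at least `E`. -/
theorem exists_pow_bracket (p E : ℕ) (hp : 2 ≤ p) (hE : 1 ≤ E) :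
    ∃ a, E ≤ p ^ a ∧ p ^ a < p * E := by
  classical
  have hex : ∃ a, E ≤ p ^ a := ⟨E, (Nat.lt_pow_self hp).le⟩
  refine ⟨Nat.find hex, Nat.find_spec hex, ?_⟩
  rcases Nat.eq_zero_or_pos (Nat.find hex) with h0 | hpos
  · rw [h0, pow_zero]
    nlinarith
  · obtain ⟨b, hb⟩ : ∃ b, Nat.find hex = b + 1 := ⟨Nat.find hex - 1, by omega⟩
    have hmin := Nat.find_min hex (show b < Nat.find hex by omega)
    rw [hb, pow_succ]
    push Not at hmin
    nlinarith

theorem le_nn (q k : ℕ) (hq : 2 ≤ q) (hk : 1 ≤ k) : q + 1 ≤ nn q k := by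
  unfold nn
  split_ifs with hev
  · obtain ⟨t, ht⟩ := hev
    have h2 : q ^ 2 ≤ q ^ k := Nat.pow_le_pow_right (by omega) (by omega)
    have h3 : q ^ 2 = q * q := sq q
    have h4 : 2 * q ≤ q * q := Nat.mul_le_mul_right q hq
    omega
  · have h2 : q ^ 1 ≤ q ^ k := Nat.pow_le_pow_right (by omega) hk
    rw [pow_one] at h2
    omega

theorem pkgUBpoly_of (hN1 : PkgN1) (hN2 : PkgN2.{u}) (hN3 : PkgN3) : PkgUBpoly.{u} := by
  intro K _ _ p f q d hp hf hq hK hd hd3 S e hS hcop hdeg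
  classical
  haveI : Fact p.Prime := ⟨hp⟩
  have hq2 : 2 ≤ q := two_le_q hK
  haveI : CharP K p := by
    obtain ⟨p', k', hp', hchar, hq'⟩ := q_prime_pow hK
    have hdvd : p ∣ p' := by
      apply hp.dvd_of_dvd_pow (n := k')
      rw [← hq', hq]
      exact dvd_pow_self p (by omega)
    rw [(Nat.prime_dvd_prime_iff_eq hp hp').mp hdvd]
    exact hchar
  have hmonic : ∀ π ∈ S, π.Monic := fun π h => (hS π h).1.1
  have hdsum : d = ∑ π ∈ S, e π * π.natDegree := by
    rw [← hdeg, natDegree_prod_of_monic _ _ (fun π h => (hmonic π h).pow _)]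
    exact Finset.sum_congr rfl (fun π h => (hmonic π h).natDegree_pow _)
  rcases Nat.lt_or_ge S.card 2 with hc | hc
  · have hc' : S.card = 0 ∨ S.card = 1 := by omega
    rcases hc' with h0 | h1
    · rw [Finset.card_eq_zero] at h0
      subst h0
      rw [Finset.sum_empty] at hdsum
      omega
    · obtain ⟨π, rfl⟩ := Finset.card_eq_one.mp h1
      rw [Finset.sum_singleton] at hdsum
      rw [Finset.prod_singleton]
      obtain ⟨⟨hm, hk1, hdvd1, z, hz⟩, he⟩ := hS π (Finset.mem_singleton_self π)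
      obtain ⟨a, ha1, ha2⟩ := exists_pow_bracket p (e π) hp.two_le he
      refine ⟨nn q π.natDegree / (q + 1) * p ^ a, z ^ p ^ a, ?_,
        hN1 p f q d (e π) π.natDegree a hp hf hq hd hd3 he hk1 hdsum.symm ha2, ?_⟩
      · exact Nat.mul_pos (Nat.div_pos (le_nn q _ hq2 hk1) (by omega)) (pow_pos hp.pos _)
      · have h1 : (X ^ (nn q π.natDegree / (q + 1)) - C z : K[X]) ^ p ^ a =
            X ^ (nn q π.natDegree / (q + 1) * p ^ a) - C (z ^ p ^ a) := by
          rw [sub_pow_char_pow, ← pow_mul, ← C_pow]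
        rw [← h1]
        exact dvd_trans (pow_dvd_pow_of_dvd hz _) (pow_dvd_pow _ ha1)
  · obtain ⟨L, hL⟩ : ∃ L, L = S.lcm (fun π => nn q π.natDegree) := ⟨_, rfl⟩
    have hne : S.Nonempty := Finset.card_pos.mp (by omega)
    obtain ⟨π₀, hπ₀, hE⟩ := Finset.exists_mem_eq_sup S hne e
    obtain ⟨E, hEdef⟩ : ∃ E, E = S.sup e := ⟨_, rfl⟩
    have hE1 : 1 ≤ E := by rw [hEdef, hE]; exact (hS π₀ hπ₀).2
    have hEle : ∀ π ∈ S, e π ≤ E := fun π h => hEdef ▸ Finset.le_sup (f := e) h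
    obtain ⟨a, ha1, ha2⟩ := exists_pow_bracket p E hp.two_le hE1
    obtain ⟨D, hD⟩ : ∃ D, D = ∑ π ∈ S, π.natDegree := ⟨_, rfl⟩
    have hD2 : 2 ≤ D := by
      rw [hD]
      calc 2 ≤ S.card := hc
        _ = ∑ π ∈ S, 1 := by simp
        _ ≤ ∑ π ∈ S, π.natDegree := Finset.sum_le_sum (fun π h => (hS π h).1.2.1)
    have h1 : D + (e π₀ - 1) ≤ d := by
      rw [hD, hdsum, ← Finset.add_sum_erase S _ hπ₀,
        ← Finset.add_sum_erase S (fun π => e π * π.natDegree) hπ₀]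
      have h2 : ∑ π ∈ S.erase π₀, π.natDegree ≤ ∑ π ∈ S.erase π₀, e π * π.natDegree :=
        Finset.sum_le_sum (fun π h => Nat.le_mul_of_pos_left _ (hS π (Finset.mem_of_mem_erase h)).2)
      have h3 : π₀.natDegree + (e π₀ - 1) ≤ e π₀ * π₀.natDegree := by
        have hk1 := (hS π₀ hπ₀).1.2.1
        have he1 := (hS π₀ hπ₀).2
        obtain ⟨e', he'⟩ : ∃ e', e π₀ = e' + 1 := ⟨e π₀ - 1, by omega⟩
        obtain ⟨k', hk'⟩ : ∃ k', π₀.natDegree = k' + 1 := ⟨π₀.natDegree - 1, by omega⟩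
        rw [he', hk', Nat.add_sub_cancel]
        nlinarith
      omega
    have hj : E ≤ (d - D) + 1 := by
      rw [hEdef, hE]
      omega
    have hLle : L ≤ nn q (D - 1) := by
      rw [hL, hD]
      exact hN2 q hq2 S (fun π => π.natDegree) (fun π h => (hS π h).1.2.1) hc
    have hbound : nn q (D - 1) * p ^ a ≤ Mb p q d :=
      hN3 p f q d D (d - D) E a hp hf hq hd hd3 hD2 (by omega) hE1 hj ha2
    have hLpos : 1 ≤ L := by
      rw [hL]
      apply Nat.pos_of_ne_zero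
      rw [Ne, Finset.lcm_eq_zero_iff]
      rintro ⟨π, hπ, h0⟩
      have := le_nn q π.natDegree hq2 (hS π hπ).1.2.1
      omega
    refine ⟨L * p ^ a, 1, Nat.mul_pos hLpos (pow_pos hp.pos _),
      le_trans (Nat.mul_le_mul_right _ hLle) hbound, ?_⟩
    have h4 : (X ^ L - C 1 : K[X]) ^ p ^ a = X ^ (L * p ^ a) - C 1 := by
      rw [sub_pow_char_pow, ← pow_mul, ← C_pow, one_pow]
    rw [← h4]
    apply Finset.prod_dvd_of_coprime
    · intro π hπ π' hπ' hne'
      exact (hcop π hπ π' hπ' hne').pow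
    · intro π hπ
      obtain ⟨⟨hm, hk1, hdvd1, -⟩, he⟩ := hS π hπ
      have h2 : π ∣ X ^ L - C 1 := by
        obtain ⟨t, ht⟩ : nn q π.natDegree ∣ L := hL ▸ Finset.dvd_lcm hπ
        refine dvd_trans hdvd1 ?_
        rw [ht, pow_mul, C_1]
        simpa using sub_dvd_pow_sub_pow (X ^ nn q π.natDegree : K[X]) 1 t
      exact dvd_trans (pow_dvd_pow_of_dvd h2 _) (pow_dvd_pow _ ((hEle π hπ).trans ha1))

end Cfsg.Agent.Lib.Helper95.PGUmax
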